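import Groth.Prelude.Def_DRing2
import Groth.Agent.HomSingleLib.Basic
import Groth.Agent.DRingLib.Basic
import Mathlib.Algebra.Homology.DerivedCategory.SingleTriangle
import Mathlib.Algebra.Homology.DerivedCategory.FullyFaithful
import Mathlib.CategoryTheory.Triangulated.Yoneda
import Mathlib.RingTheory.Filtration

/-! Artin-Rees for `Ext^p(M, N)` in the first variable. -/

set_option autoImplicit false
universe u
open CategoryTheory CategoryTheory.Limits
attribute [local instance] HasDerivedCategory.standard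

namespace Groth.Agent.ExtARLib

variable {A : Type u} [CommRing A]

/-- The single functor. -/
noncomputable abbrev sf : ModuleCat.{u} A ⥤ Dual.D A := DerivedCategory.singleFunctor (ModuleCat.{u} A) 0

theorem hom_proj_shift_eq_zero (F X : ModuleCat.{u} A) [Module.Projective A F] {i : ℤ} (hi : i ≠ 0)
    (φ : (sf (A := A)).obj F ⟶ ((sf (A := A)).obj X)⟦i⟧) : φ = 0 := by
  let E := (CochainComplex.singleFunctor (ModuleCat.{u} A) 0).obj F
  have hz : ∀ j : ℤ, j ≠ 0 → IsZero (E.X j) := fun j hj => HomologicalComplex.isZero_single_obj_X _ _ _ _ hj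
  haveI : E.IsKProjective := DRingLib.isKProjective_of_projective E 0 (fun j hj => hz j (by omega)) fun j => by
    by_cases hj : j = 0
    · subst hj
      exact Module.Projective.of_equiv (HomologicalComplex.singleObjXSelf (.up ℤ) 0 F).toLinearEquiv.symm
    · haveI : Subsingleton (E.X j) := ModuleCat.subsingleton_of_isZero (hz j hj)
      infer_instance
  have e0 : DerivedCategory.Q.obj E ≅ (sf (A := A)).obj F :=
    ((SingleFunctors.evaluation _ _ 0).mapIso (DerivedCategory.singleFunctorsPostcompQIso _)).symm.app F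
  have h : i + -i = 0 := add_neg_cancel i
  obtain ⟨f, hf, rfl⟩ := HomSingleLib.cls_surjective h e0 φ
  exact (HomSingleLib.cls_eq_zero_iff h e0 f hf).2 ⟨0, by
    rw [comp_zero]; exact ((hz _ (by omega)).eq_of_src _ _).symm⟩

/-- The inclusion of `Iⁿ M`. -/
abbrev pw (I : Ideal A) (M : Type u) [AddCommGroup M] [Module A M] (n : ℕ) :
    ModuleCat.of A ↥(I ^ n • ⊤ : Submodule A M) ⟶ ModuleCat.of A M :=
  ModuleCat.ofHom (I ^ n • ⊤ : Submodule A M).subtype

theorem ext_pow_factors [IsNoetherianRing A] (I : Ideal A) (p : ℕ) :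
    ∀ (M N : Type u) [AddCommGroup M] [Module A M] [Module.Finite A M] [AddCommGroup N] [Module A N],
    ∃ c : ℕ, ∀ n : ℕ, c ≤ n → ∀ e : (sf (A := A)).obj (ModuleCat.of A M) ⟶ ((sf (A := A)).obj (ModuleCat.of A N))⟦(p : ℤ)⟧,
      ∃ e' : (sf (A := A)).obj (ModuleCat.of A ↥(I ^ n • ⊤ : Submodule A M)) ⟶
          ((sf (A := A)).obj (ModuleCat.of A ↥(I ^ (n - c) • ⊤ : Submodule A N)))⟦(p : ℤ)⟧,
        e' ≫ ((sf (A := A)).map (pw I N (n - c)))⟦(p : ℤ)⟧' = (sf (A := A)).map (pw I M n) ≫ e := by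
  induction p with
  | zero =>
    intro M N _ _ _ _ _
    refine ⟨0, fun n _ e => ?_⟩
    let z {X : Dual.D A} : X⟦((0 : ℕ) : ℤ)⟧ ≅ X := (shiftFunctorZero _ ℤ).app X
    obtain ⟨g, hg⟩ := (sf (A := A)).map_surjective (e ≫ z.hom)
    have hle : (I ^ n • ⊤ : Submodule A M) ≤ (I ^ n • ⊤ : Submodule A N).comap g.hom := by
      rw [← Submodule.map_le_iff_le_comap, Submodule.map_smul'']
      exact Submodule.smul_mono le_rfl le_top
    refine ⟨(sf (A := A)).map (ModuleCat.ofHom (g.hom.restrict hle)) ≫ z.inv, ?_⟩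
    have hn : z.inv ≫ ((sf (A := A)).map (pw I N (n - 0)))⟦((0 : ℕ) : ℤ)⟧' = (sf (A := A)).map (pw I N (n - 0)) ≫ z.inv :=
      ((shiftFunctorZero (Dual.D A) ℤ).inv.naturality _).symm
    rw [Category.assoc]
    erw [hn]
    rw [← Category.assoc, ← Functor.map_comp,
      show e = (sf (A := A)).map g ≫ z.inv by rw [hg, Category.assoc, Iso.hom_inv_id, Category.comp_id],
      ← Category.assoc, ← Functor.map_comp]
    rfl
  | succ p ih =>
    intro M N _ _ _ _ _
    obtain ⟨k, π, hπ⟩ := Module.Finite.exists_fin' A M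
    haveI : IsNoetherian A (Fin k → A) := isNoetherian_of_isNoetherianRing_of_finite A _
    let K : Submodule A (Fin k → A) := LinearMap.ker π
    obtain ⟨c0, hc0⟩ := Ideal.exists_pow_inf_eq_pow_smul I K
    obtain ⟨c1, hc1⟩ := ih K N
    refine ⟨c0 + c1, fun n hn e => ?_⟩
    let S : ShortComplex (ModuleCat.{u} A) := ShortComplex.moduleCatMk K.subtype π
      (LinearMap.ext fun x => x.2)
    have hS : S.ShortExact :=
      { exact := (ShortComplex.ShortExact.moduleCat_exact_iff_function_exact S).2 (LinearMap.exact_subtype_ker_map π)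
        mono_f := (ModuleCat.mono_iff_injective _).2 K.injective_subtype
        epi_g := (ModuleCat.epi_iff_surjective _).2 hπ }
    let Fn : Submodule A (Fin k → A) := I ^ n • ⊤
    have hmap : Fn.map π = (I ^ n • ⊤ : Submodule A M) := by
      rw [Submodule.map_smul'', Submodule.map_top, LinearMap.range_eq_top.2 hπ]
    let πn : Fn →ₗ[A] ↥(I ^ n • ⊤ : Submodule A M) :=
      π.restrict fun x hx => hmap ▸ Submodule.mem_map_of_mem hx
    have hπn : Function.Surjective πn := by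
      rintro ⟨y, hy⟩
      rw [← hmap] at hy
      obtain ⟨x, hx, rfl⟩ := hy
      exact ⟨⟨x, hx⟩, rfl⟩
    let Sn : ShortComplex (ModuleCat.{u} A) := ShortComplex.moduleCatMk (X₁ := LinearMap.ker πn) (X₂ := Fn)
      (X₃ := ↥(I ^ n • ⊤ : Submodule A M)) (LinearMap.ker πn).subtype πn
      (LinearMap.comp_ker_subtype πn)
    have hSn : Sn.ShortExact :=
      { exact := (ShortComplex.ShortExact.moduleCat_exact_iff_function_exact Sn).2 (LinearMap.exact_subtype_ker_map πn)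
        mono_f := (ModuleCat.mono_iff_injective _).2 (LinearMap.ker πn).injective_subtype
        epi_g := (ModuleCat.epi_iff_surjective _).2 hπn }
    let τ : (LinearMap.ker πn) →ₗ[A] K :=
      (Fn.subtype ∘ₗ (LinearMap.ker πn).subtype).codRestrict K fun x => congrArg Subtype.val x.2
    let φ : Sn ⟶ S :=
      { τ₁ := ModuleCat.ofHom τ, τ₂ := ModuleCat.ofHom Fn.subtype, τ₃ := pw I M n
        comm₁₂ := rfl, comm₂₃ := rfl }
    -- `τ` lands deep in `K`
    have hτ : ∀ x, τ x ∈ (I ^ (n - c0) • ⊤ : Submodule A K) := by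
      intro x
      rw [Submodule.mem_smul_top_iff]
      have h1 : (τ x : Fin k → A) ∈ I ^ n • ⊤ ⊓ K := ⟨x.1.2, (τ x).2⟩
      rw [hc0 n (by omega)] at h1
      exact Submodule.smul_mono le_rfl inf_le_right h1
    let j : ModuleCat.of A (LinearMap.ker πn) ⟶ ModuleCat.of A ↥(I ^ (n - c0) • ⊤ : Submodule A K) :=
      ModuleCat.ofHom (τ.codRestrict _ hτ)
    -- write `e` through the connecting map
    haveI : Module.Projective A S.X₂ := inferInstanceAs (Module.Projective A (Fin k → A))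
    obtain ⟨g, hg⟩ := Pretriangulated.Triangle.yoneda_exact₃ _ hS.singleTriangle_distinguished e
      (hom_proj_shift_eq_zero S.X₂ (ModuleCat.of A N) (Int.natCast_ne_zero.2 (Nat.succ_ne_zero p)) _)
    let a {X : Dual.D A} : X⟦((p + 1 : ℕ) : ℤ)⟧ ≅ (X⟦(p : ℤ)⟧)⟦(1 : ℤ)⟧ :=
      (shiftFunctorAdd' _ (p : ℤ) 1 ((p + 1 : ℕ) : ℤ) (by push_cast; rfl)).app X
    obtain ⟨g0, hg0⟩ := (shiftFunctor (Dual.D A) (1 : ℤ)).map_surjective (g ≫ a.hom)
    let g0' : (sf (A := A)).obj (ModuleCat.of A K) ⟶ ((sf (A := A)).obj (ModuleCat.of A N))⟦(p : ℤ)⟧ := g0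
    have hg0' : g0'⟦(1 : ℤ)⟧' ≫ a.inv = g := by
      change (shiftFunctor (Dual.D A) (1 : ℤ)).map g0 ≫ a.inv = g
      erw [hg0, Category.assoc, Iso.hom_inv_id, Category.comp_id]
    obtain ⟨g1, hg1⟩ := hc1 (n - c0) (by omega) g0'
    refine ⟨hSn.singleδ ≫ ((sf (A := A)).map j ≫ g1)⟦(1 : ℤ)⟧' ≫ a.inv ≫ eqToHom (by rw [Nat.sub_sub]), ?_⟩
    have hnat : ∀ {m m' : ℕ} (h : m = m') ,
        eqToHom (show ((sf (A := A)).obj (ModuleCat.of A ↥(I ^ m • ⊤ : Submodule A N)))⟦((p + 1 : ℕ) : ℤ)⟧ =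
          ((sf (A := A)).obj (ModuleCat.of A ↥(I ^ m' • ⊤ : Submodule A N)))⟦((p + 1 : ℕ) : ℤ)⟧ by rw [h]) ≫
          ((sf (A := A)).map (pw I N m'))⟦((p + 1 : ℕ) : ℤ)⟧' = ((sf (A := A)).map (pw I N m))⟦((p + 1 : ℕ) : ℤ)⟧' := by
      rintro m m' rfl
      simp
    have ha : a.inv ≫ ((sf (A := A)).map (pw I N (n - c0 - c1)))⟦((p + 1 : ℕ) : ℤ)⟧' =
        (((sf (A := A)).map (pw I N (n - c0 - c1)))⟦(p : ℤ)⟧')⟦(1 : ℤ)⟧' ≫ a.inv :=
      ((shiftFunctorAdd' (Dual.D A) (p : ℤ) 1 ((p + 1 : ℕ) : ℤ) (by push_cast; rfl)).inv.naturality _).symm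
    have h2 : a.inv ≫ eqToHom (by rw [Nat.sub_sub]) ≫ ((sf (A := A)).map (pw I N (n - (c0 + c1))))⟦((p + 1 : ℕ) : ℤ)⟧' =
        (((sf (A := A)).map (pw I N (n - c0 - c1)))⟦(p : ℤ)⟧')⟦(1 : ℤ)⟧' ≫ a.inv := by
      rw [hnat (Nat.sub_sub n c0 c1), ha]
    have h3 : ((sf (A := A)).map j ≫ g1)⟦(1 : ℤ)⟧' ≫ (((sf (A := A)).map (pw I N (n - c0 - c1)))⟦(p : ℤ)⟧')⟦(1 : ℤ)⟧' ≫ a.inv =
        ((sf (A := A)).map (ModuleCat.ofHom τ))⟦(1 : ℤ)⟧' ≫ g := by
      rw [← Category.assoc, ← Functor.map_comp, Category.assoc, hg1, ← Category.assoc,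
        show (sf (A := A)).map j ≫ (sf (A := A)).map (pw I K (n - c0)) = (sf (A := A)).map (ModuleCat.ofHom τ) from
          ((sf (A := A)).map_comp _ _).symm, Functor.map_comp, Category.assoc, hg0']
    have hc := (ShortComplex.ShortExact.singleTriangle.map hSn hS φ).comm₃
    simp only [Category.assoc]
    erw [h2, h3]
    rw [hg]
    erw [reassoc_of% hc]
    rfl

end Groth.Agent.ExtARLib
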